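import Cfsg.Agent.H595.SD.Central
import Cfsg.Agent.H704.S8.Defs3
import Cfsg.Agent.H529.S8.Main
import Cfsg.Agent.H670.PSing
import Cfsg.Agent.H540.ClassNum

/-!
# S4908, box CENTRAL for the final form of the rows (helper595)

`noCentral_of` : `Row3 c X` gives `NoCentral D X` (the input of the assembly `H529.S8.Main`).
-/

set_option autoImplicit false
set_option linter.unusedSectionVars false
set_option linter.style.haveILetI false

namespace Cfsg.Agent.H595.SD

open Cfsg Cfsg.Agent.Characters.Core Cfsg.Agent.H424.DegTools Cfsg.Agent.H704.S8 Cfsg.Agent.H515.S8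
open Cfsg.Agent.H142.AN (comm_of_degrees exists_prod exists_max)

universe u v

/-- **CENTRAL**, the general form: the degrees over `V` of the perfect central extension. -/
theorem core3 {X : Type v} [Group X] [Finite X] [IsSimpleGroup X] (hX : ¬ IsMulCommutative X)
    (hI2 : (MulAut.conj : X →* MulAut X).range.index ≤ 2) {b : ℕ} (hb : b ∈ charDegrees X)
    {G : Type u} [Group G] [Finite G] (hDb : ∀ d ∈ charDegrees G, d ≤ 2 * b) (hD2 : 2 ∉ charDegrees G)
    (N V : Subgroup G) [hN : N.Normal] [hVn : V.Normal]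
    (hVN : V ≤ N) (e : (N ⧸ V.subgroupOf N) ≃* X) (hperf : ⁅N, N⁆ = N) (hne : V ≠ ⊥)
    (hmin : ∀ K : Subgroup G, K.Normal → K ≤ V → K = ⊥ ∨ K = V) (hcen : ∀ v ∈ V, ∀ n ∈ N, v * n = n * v)
    (hmult : V.subgroupOf N ≤ Subgroup.center N → commutator N = ⊤ → IsCyclic (V.subgroupOf N)) :
    ∃ r i m : ℕ, r.Prime ∧ Nat.card (V.subgroupOf N) = r ∧ commutator N = ⊤ ∧ V.subgroupOf N ≤ Subgroup.center N ∧
      m ≠ 0 ∧ m ≤ 2 ∧ (1 < m → charDegrees (MulAut X) ⊆ charDegrees G) ∧
      ∀ (χ : N → ℂ) (d : ℕ), IsIrrCharacter N χ → (∃ v ∈ V.subgroupOf N, χ v ≠ χ 1) → χ 1 = d →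
        ∃ D' ∈ charDegrees G, d * r ^ i ∣ D' ∧ D' / (d * r ^ i) ∣ m := by
  classical
  have hna : ¬ ∀ a b : X, a * b = b * a := fun h => hX ⟨⟨h⟩⟩
  -- `N` is perfect
  have hNc : commutator N = ⊤ := by
    have h3 : (commutator N).map N.subtype = N := by
      rw [Subgroup.map_subtype_commutator, hperf]
    rw [eq_top_iff]
    intro x _
    have h4 : (x : G) ∈ (commutator N).map N.subtype := by rw [h3]; exact x.2
    obtain ⟨y, hy, hyx⟩ := h4
    have : y = x := Subtype.ext hyx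
    rwa [← this]
  set V' : Subgroup N := V.subgroupOf N with hV'
  have hV'c : V' ≤ Subgroup.center N := by
    intro v hv
    rw [Subgroup.mem_center_iff]
    intro n
    exact Subtype.ext (hcen _ hv _ n.2).symm
  let eV : V' ≃* V := Subgroup.subgroupOfEquivOfLe hVN
  have hcyc' : IsCyclic V' := hmult hV'c hNc
  have hcyc : IsCyclic V := isCyclic_of_surjective eV eV.surjective
  -- `V` has prime order
  have hV1 : Nat.card V ≠ 1 := fun h1 => hne (Subgroup.card_eq_one.1 h1)
  obtain ⟨r, hr, hrd⟩ := Nat.exists_prime_and_dvd hV1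
  have := Fact.mk hr
  have hVr : ∀ v ∈ V, v ^ r = 1 := by
    let W : Subgroup G :=
      { carrier := {v | v ∈ V ∧ v ^ r = 1}
        one_mem' := ⟨V.one_mem, one_pow r⟩
        mul_mem' := fun {a b} ha hb => ⟨V.mul_mem ha.1 hb.1, by
          rw [(show Commute a b from hcen a ha.1 b (hVN hb.1)).mul_pow, ha.2, hb.2, one_mul]⟩
        inv_mem' := fun {a} ha => ⟨V.inv_mem ha.1, by rw [inv_pow, ha.2, inv_one]⟩ }
    have hWn : W.Normal := ⟨fun v hv g => ⟨hVn.conj_mem v hv.1 g, by rw [conj_pow, hv.2, mul_one, mul_inv_cancel]⟩⟩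
    have hWV : W ≤ V := fun v hv => hv.1
    rcases hmin W hWn hWV with h1 | h1
    · exfalso
      obtain ⟨v, hv⟩ := exists_prime_orderOf_dvd_card' (G := V) r hrd
      have h2 : (v : G) ∈ W := ⟨v.2, by
        have h3 : v ^ r = 1 := by rw [← hv, pow_orderOf_eq_one]
        exact congrArg Subtype.val h3⟩
      rw [h1, Subgroup.mem_bot] at h2
      have h3 : v = 1 := Subtype.ext h2
      rw [h3, orderOf_one] at hv
      exact hr.one_lt.ne hv
    · intro v hv
      rw [← h1] at hv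
      exact hv.2
  have hVcard : Nat.card V = r := by
    obtain ⟨g, hg⟩ := hcyc.exists_generator
    have h1 : orderOf g = Nat.card V := orderOf_eq_card_of_forall_mem_zpowers hg
    have h2 : orderOf g ∣ r := orderOf_dvd_of_pow_eq_one (Subtype.ext (hVr g g.2))
    rw [h1] at h2
    exact ((Nat.dvd_prime hr).1 h2).resolve_left hV1
  have hVcard' : Nat.card V' = r := by rw [Nat.card_congr eV.toEquiv, hVcard]
  -- the quotient
  have hsurj := QuotientGroup.mk'_surjective V
  have iNb : (N.map (QuotientGroup.mk' V)).Normal := hN.map _ hsurj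
  set Nb := N.map (QuotientGroup.mk' V) with hNb
  let f0 : N →* Nb := (QuotientGroup.mk' V).subgroupMap N
  have hf0 : Function.Surjective f0 := (QuotientGroup.mk' V).subgroupMap_surjective N
  have hker0 : f0.ker = V' := by
    ext x
    rw [MonoidHom.mem_ker, Subgroup.mem_subgroupOf, Subtype.ext_iff]
    change (QuotientGroup.mk' V) (x : G) = 1 ↔ _
    rw [QuotientGroup.mk'_apply, QuotientGroup.eq_one_iff]
  let eb : Nb ≃* X := ((QuotientGroup.quotientMulEquivOfEq hker0).symm.trans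
    (QuotientGroup.quotientKerEquivOfSurjective f0 hf0)).symm.trans e
  have hq := quot_comm hX hI2 hb (G := G ⧸ V)
    (fun d hd => hDb d (charDegrees_of_surjective (QuotientGroup.mk' V) hsurj hd))
    (fun h2 => hD2 (charDegrees_of_surjective (QuotientGroup.mk' V) hsurj h2)) Nb eb
  have hcG : ∀ x y : G, x * y * x⁻¹ * y⁻¹ ∈ N := by
    intro x y
    have h1 := hq (QuotientGroup.mk (QuotientGroup.mk x)) (QuotientGroup.mk (QuotientGroup.mk y))
    rw [← QuotientGroup.mk_mul, ← QuotientGroup.mk_mul, ← QuotientGroup.mk_mul, ← QuotientGroup.mk_mul, eq_comm,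
      QuotientGroup.eq, ← QuotientGroup.mk_inv, ← QuotientGroup.mk_mul] at h1
    obtain ⟨n, hn, h2⟩ := h1
    have h3 : n⁻¹ * ((y * x)⁻¹ * (x * y)) ∈ V := QuotientGroup.eq.1 h2
    have h4 : (y * x)⁻¹ * (x * y) ∈ N := by
      have h5 := N.mul_mem hn (hVN h3)
      rwa [mul_inv_cancel_left] at h5
    have h5 := hN.conj_mem _ h4 (y * x)
    have h6 : y * x * ((y * x)⁻¹ * (x * y)) * (y * x)⁻¹ = x * y * x⁻¹ * y⁻¹ := by group
    rwa [h6] at h5
  -- the centralizer
  set C := Subgroup.centralizer (N : Set G) with hC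
  have iC : C.Normal := by rw [hC]; infer_instance
  have hCm : ∀ {x : G}, x ∈ C ↔ ∀ n ∈ N, n * x = x * n := by
    intro x
    rw [hC, Subgroup.mem_centralizer_iff]
    rfl
  have hNC : ∀ z ∈ N, z ∈ C → z ∈ V := by
    intro z hz hzC
    have h1 : e (QuotientGroup.mk ⟨z, hz⟩) = 1 := by
      apply H681.SimpleChar.eq_one_of_central hna
      intro y
      obtain ⟨q, rfl⟩ := e.surjective y
      obtain ⟨n, rfl⟩ := QuotientGroup.mk_surjective q
      rw [← map_mul, ← map_mul, ← QuotientGroup.mk_mul, ← QuotientGroup.mk_mul]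
      congr 2
      exact Subtype.ext (hCm.1 hzC n n.2).symm
    have h2 := (map_eq_one_iff e e.injective).1 h1
    exact (QuotientGroup.eq_one_iff (⟨z, hz⟩ : N)).1 h2
  have hVC : V ≤ C := fun v hv => hCm.2 fun n hn => (hcen v hv n hn).symm
  set VC : Subgroup C := V.subgroupOf C with hVCd
  have hVCcard : Nat.card VC = r := by
    rw [hVCd, Nat.card_congr (Subgroup.subgroupOfEquivOfLe hVC).toEquiv, hVcard]
  have hVCc : VC ≤ Subgroup.center C := by
    intro v hv
    rw [Subgroup.mem_center_iff]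
    intro x
    exact Subtype.ext (hCm.1 x.2 _ (hVN hv)).symm
  obtain ⟨i, hi⟩ := deg_class_two VC hr hVCcard hVCc (fun a b =>
    hNC _ (hcG a b) (C.mul_mem (C.mul_mem (C.mul_mem a.2 b.2) (C.inv_mem a.2)) (C.inv_mem b.2)))
  -- `K = N C`
  set K := N ⊔ C with hK
  have iK : K.Normal := by rw [hK]; infer_instance
  have hKi : K.index ≤ 2 ∧ (1 < K.index → charDegrees (MulAut X) ⊆ charDegrees G) := by
    obtain ⟨π, hπ, hπ1⟩ := exists_pi Nb eb
    set I : Subgroup (MulAut X) := (MulAut.conj : X →* MulAut X).range with hIdef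
    have hIn : I.Normal := by
      refine ⟨fun a ha g => ?_⟩
      obtain ⟨x, rfl⟩ := ha
      refine ⟨g x, ?_⟩
      apply MulEquiv.ext
      intro y
      change g x * y * (g x)⁻¹ = g (x * g⁻¹ y * x⁻¹)
      rw [map_mul, map_mul, map_inv, MulAut.apply_inv_self]
    have h1 : I.comap (π.comp (QuotientGroup.mk' V)) ≤ K := by
      intro g hg
      obtain ⟨x, hx⟩ := hg
      obtain ⟨n, hn⟩ := hf0 (eb.symm x)
      have h2 : π ((QuotientGroup.mk' V) (n : G)) = MulAut.conj x := by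
        have h3 := hπ (f0 n)
        rw [hn, eb.apply_symm_apply, ← hn] at h3
        exact h3
      have h4 : π ((QuotientGroup.mk' V) ((n : G)⁻¹ * g)) = 1 := by
        rw [map_mul, map_mul, map_inv, map_inv, h2]
        have h5 : π ((QuotientGroup.mk' V) g) = MulAut.conj x := hx.symm
        rw [h5, inv_mul_cancel]
      have h5 := (hπ1 _).1 h4
      have h6 : ∀ m ∈ N, (n : G)⁻¹ * g * m * ((n : G)⁻¹ * g)⁻¹ * m⁻¹ ∈ V := by
        intro m hm
        have h7 := h5 ((QuotientGroup.mk' V) m) ⟨m, hm, rfl⟩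
        rw [← map_mul, ← map_mul] at h7
        rw [← QuotientGroup.eq_one_iff]
        change (QuotientGroup.mk' V) ((n : G)⁻¹ * g * m * ((n : G)⁻¹ * g)⁻¹ * m⁻¹) = 1
        rw [map_mul, map_mul, h7, map_mul, map_inv, map_inv]
        group
      have h7 := cent_of_mod hVN hNc hcen h6
      have h8 : (n : G)⁻¹ * g ∈ C := hCm.2 fun m hm => (h7 m hm).symm
      have h9 : g = n * ((n : G)⁻¹ * g) := by group
      rw [h9, hK]
      exact Subgroup.mul_mem_sup n.2 h8
    have h2 : K.index ∣ (I.comap (π.comp (QuotientGroup.mk' V))).index := Subgroup.index_dvd_of_le h1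
    rw [Subgroup.index_comap] at h2
    have h3 := h2.trans (Subgroup.relIndex_dvd_index_of_normal I (π.comp (QuotientGroup.mk' V)).range)
    refine ⟨(Nat.le_of_dvd (Nat.pos_of_ne_zero Subgroup.FiniteIndex.index_ne_zero) h3).trans hI2, fun hK1 => ?_⟩
    have hle : I ≤ (π.comp (QuotientGroup.mk' V)).range := by
      rintro _ ⟨x, rfl⟩
      obtain ⟨n, hn⟩ := hf0 (eb.symm x)
      refine ⟨n, ?_⟩
      have h3 := hπ (f0 n)
      rw [hn, eb.apply_symm_apply, ← hn] at h3
      exact h3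
    rcases or_top hI2 hle with h4 | h4
    · exfalso
      have h5 : K = ⊤ := by
        rw [eq_top_iff]
        intro g _
        apply h1
        rw [Subgroup.mem_comap, ← h4]
        exact ⟨g, rfl⟩
      rw [h5, Subgroup.index_top] at hK1
      exact lt_irrefl _ hK1
    · exact charDegrees_of_surjective _ (MonoidHom.range_eq_top.1 h4)
  have hNK : N ≤ K := le_sup_left
  have hCK : C ≤ K := le_sup_right
  let f : N × C →* K :=
    { toFun := fun x => ⟨x.1 * x.2, K.mul_mem (hNK x.1.2) (hCK x.2.2)⟩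
      map_one' := Subtype.ext (by simp)
      map_mul' := fun x y => Subtype.ext (by
        show (x.1 * y.1 : G) * (x.2 * y.2) = x.1 * x.2 * (y.1 * y.2)
        have h1 := hCm.1 x.2.2 y.1 y.1.2
        calc (x.1 * y.1 : G) * (x.2 * y.2) = x.1 * (y.1 * x.2) * y.2 := by simp only [mul_assoc]
          _ = x.1 * (x.2 * y.1) * y.2 := by rw [h1]
          _ = _ := by simp only [mul_assoc]) }
  have hf : Function.Surjective f := by
    rintro ⟨x, hx⟩
    have h1 := hx
    rw [hK, ← SetLike.mem_coe, Subgroup.normal_mul] at h1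
    obtain ⟨n, hn, z, hz, rfl⟩ := h1
    exact ⟨(⟨n, hn⟩, ⟨z, hz⟩), rfl⟩
  have := Fintype.ofFinite N
  have := Fintype.ofFinite K
  refine ⟨r, i, K.index, hr, hVcard', hNc, hV'c, Subgroup.FiniteIndex.index_ne_zero, hKi.1, hKi.2, fun χ d hχ hnt hχ1 => ?_⟩
  obtain ⟨v, hv, hvχ⟩ := hnt
  obtain ⟨ζ, hζ⟩ := H595.GoUp.exists_over (Subgroup.inclusion hNK) (Subgroup.inclusion_injective hNK) ⟨χ, hχ⟩
  obtain ⟨α, β, hα, hβ, hαβ⟩ := (S0188.result _).1 (isIrr_comp f hf ζ.2)
  have hval : ∀ (n : N) (z : C), (ζ : K → ℂ) (f (n, z)) = α n * β z := fun n z => congrFun hαβ (n, z)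
  have hfn : ∀ n : N, f (n, 1) = Subgroup.inclusion hNK n := fun n => Subtype.ext (by
    show (n : G) * ((1 : C) : G) = n
    rw [OneMemClass.coe_one, mul_one])
  have hαχ : α = χ := by
    by_contra hcon
    apply hζ
    have h1 : ((ζ : K → ℂ) ∘ (Subgroup.inclusion hNK)) = fun n => β 1 * α n := by
      funext n
      show (ζ : K → ℂ) (Subgroup.inclusion hNK n) = _
      rw [← hfn, hval, mul_comm]
    rw [h1]
    have h2 : classInner (fun n => β 1 * α n) χ = β 1 * classInner α χ := by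
      have h3 : (fun n => β 1 * α n) = β 1 • α := rfl
      rw [h3, classInner_smul_left]
    show classInner (fun n => β 1 * α n) χ = 0
    rw [h2, classInner_irr_ne hα hχ hcon, mul_zero]
  have hα0 : α 1 ≠ 0 := isIrr_apply_one_ne_zero hα
  have hβ0 : β 1 ≠ 0 := isIrr_apply_one_ne_zero hβ
  have hβr : β 1 = ((r ^ i : ℕ) : ℂ) := by
    refine hi β hβ ⟨⟨v, hVC hv⟩, hv, fun h1 => hvχ ?_⟩
    have h2 := hval v 1
    have h3 := hval 1 ⟨v, hVC hv⟩
    have h4 : f (v, 1) = f (1, ⟨v, hVC hv⟩) := Subtype.ext (by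
      show (v : G) * ((1 : C) : G) = ((1 : N) : G) * v
      rw [OneMemClass.coe_one, OneMemClass.coe_one, mul_one, one_mul])
    rw [h4, h3, h1] at h2
    rw [← hαχ]
    exact (mul_right_cancel₀ hβ0 h2).symm
  have hdK : d * r ^ i ∈ charDegrees K := by
    refine mem_charDegrees.2 ⟨ζ, ζ.2, ?_⟩
    have h1 := hval 1 1
    have h2 : f (1, 1) = 1 := map_one f
    rw [h2, hαχ, hχ1, hβr] at h1
    rw [h1]
    push_cast
    rfl
  exact clifford_up K hdK

/-- a large degree over a central subgroup of prime order -/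
theorem big_deg {N : Type u} [Group N] [Finite N] (V : Subgroup N) [V.Normal] {r : ℕ} (hr : r.Prime)
    (hV : Nat.card V = r) (hVc : V ≤ Subgroup.center N) :
    ∃ (χ : N → ℂ) (d : ℕ), IsIrrCharacter N χ ∧ (∃ v ∈ V, χ v ≠ χ 1) ∧ χ 1 = d ∧
      V.index ≤ Nat.card (ConjClasses (N ⧸ V)) * d ^ 2 := by
  classical
  have := Fact.mk hr
  have hcm : ∀ a b : V, a * b = b * a := fun a b => Subtype.ext (Subgroup.mem_center_iff.1 (hVc b.2) a)
  letI : CommGroup V := { (inferInstance : Group V) with mul_comm := hcm }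
  have hnt : Nontrivial V := Finite.one_lt_card_iff_nontrivial.1 (by rw [hV]; exact hr.one_lt)
  obtain ⟨a, ha⟩ := exists_ne (1 : V)
  have : NeZero ((Monoid.exponent V : ℕ) : ℂ) :=
    ⟨Nat.cast_ne_zero.2 (Monoid.exponent_ne_zero_of_finite)⟩
  obtain ⟨l, hl⟩ := CommGroup.exists_apply_ne_one_of_hasEnoughRootsOfUnity V ℂ ha
  have := finite_irr (G := N)
  have := Fintype.ofFinite (IrrCharacter N)
  have hinv : ∀ (t : N) (v : V), l (MulAut.conjNormal t v) = l v := by
    intro t v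
    congr 1
    apply Subtype.ext
    rw [MulAut.conjNormal_apply, Subgroup.mem_center_iff.1 (hVc v.2) t, mul_inv_cancel_right]
  have h1 := H211.Hup.sum_sq_ov V l hinv
  have h2 := H211.Hup.card_ov_le V l
  set S := Finset.univ.filter fun χ : IrrCharacter N => H211.Hup.Ov V l (χ : N → ℂ) with hS
  have hcard : S.card ≤ Nat.card (ConjClasses (N ⧸ V)) := by
    rw [Nat.card_eq_fintype_card, Fintype.card_subtype] at h2
    exact h2
  have hidx : 0 < V.index := Nat.pos_of_ne_zero Subgroup.FiniteIndex.index_ne_zero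
  have h3 : ∃ χ ∈ S, V.index ≤ Nat.card (ConjClasses (N ⧸ V)) * charDegree (χ : N → ℂ) ^ 2 := by
    by_contra hcon
    push Not at hcon
    have hk : 0 < Nat.card (ConjClasses (N ⧸ V)) := Nat.card_pos
    have h4 : Nat.card (ConjClasses (N ⧸ V)) * V.index ≤ S.card * (V.index - 1) := by
      rw [← h1, Finset.mul_sum, ← smul_eq_mul S.card]
      refine Finset.sum_le_card_nsmul _ _ _ fun χ hχ => ?_
      rw [h1]
      have := hcon χ hχ
      omega
    have h5 : S.card * (V.index - 1) ≤ Nat.card (ConjClasses (N ⧸ V)) * (V.index - 1) := Nat.mul_le_mul_right _ hcard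
    have h6 := Nat.le_of_mul_le_mul_left (h4.trans h5) hk
    omega
  obtain ⟨χ, hχ, h4⟩ := h3
  have hov : H211.Hup.Ov V l (χ : N → ℂ) := (Finset.mem_filter.1 hχ).2
  obtain ⟨d, -, hd⟩ := isIrr_apply_one χ.2
  have hd' : charDegree (χ : N → ℂ) = d := H670.PSing.charDegree_eq_of hd
  refine ⟨χ, d, χ.2, ⟨a, a.2, fun h5 => hl ?_⟩, hd, by rw [← hd']; exact h4⟩
  have h6 := hov a 1
  rw [mul_one, h5] at h6
  have h7 : ((l a : ℂˣ) : ℂ) = 1 := by
    have h8 := isIrr_apply_one_ne_zero χ.2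
    exact (mul_right_cancel₀ h8 (by rw [one_mul]; exact h6)).symm
  exact Units.ext h7

/-- **CENTRAL**, for the final form of the rows -/
theorem central3 {X : Type v} [Group X] [Finite X] [IsSimpleGroup X] (hX : ¬ IsMulCommutative X) {c : ℕ} (h1c : 1 ≤ c)
    (hc : c ≤ 2) (hidx : (MulAut.conj : X →* MulAut X).range.index ≤ c) {D : Set ℕ} (hD : Deg c X D)
    (hcov : Cover3.{u} c D X)
    (hmult : ∀ {N : Type u} [Group N] [Finite N] (V : Subgroup N) [V.Normal], V ≤ Subgroup.center N →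
      commutator N = ⊤ → Nonempty ((N ⧸ V) ≃* X) → IsCyclic V) : H529.S8.NoCentral.{u, v} D X := by
  intro G _ _ h N V iN iV hVN e hperf hne hmin hcen
  classical
  obtain ⟨b, hb, hmax⟩ := exists_max (G := X)
  obtain ⟨hDb, hD2⟩ := deg_bound hX (hidx.trans hc) hD hmax
  obtain ⟨r, i, m, hr, hVcard, hNc, hVc, hm0, hm, hm2, key⟩ := core3 hX (hidx.trans hc) hb (fun d hd => hDb d (h hd))
    (fun h2 => hD2 (h h2)) N V hVN e hperf hne hmin hcen (fun h1 h2 => hmult _ h1 h2 ⟨e⟩)
  have hsq := H211.S8.deg_sq hX h1c hidx hD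
  -- the bound for `i`
  have hi : r ^ (2 * i) < c * Nat.card (ConjClasses X) := by
    obtain ⟨χ, d, hχ, hnt, hd, hbig⟩ := big_deg (V.subgroupOf N) hr hVcard hVc
    obtain ⟨D', hD', hdvd, -⟩ := key χ d hχ hnt hd
    have h1 := hsq D' (h hD')
    have h2 := Nat.le_of_dvd (pos_of_mem hD') hdvd
    have h3 : (V.subgroupOf N).index = Nat.card X := by
      rw [Subgroup.index_eq_card, Nat.card_congr e.toEquiv]
    have h4 : Nat.card (ConjClasses (N ⧸ V.subgroupOf N)) = Nat.card (ConjClasses X) :=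
      H540.ClassNum.card_conjClasses_congr e
    rw [h3, h4] at hbig
    have h5 : (d * r ^ i) ^ 2 < c * Nat.card X := (Nat.pow_le_pow_left h2 2).trans_lt h1
    have h6 : (d * r ^ i) ^ 2 = d ^ 2 * r ^ (2 * i) := by rw [mul_pow, ← pow_mul, mul_comm i 2]
    rw [h6] at h5
    have hXpos : 0 < Nat.card X := Nat.card_pos
    have hk : 0 < Nat.card (ConjClasses X) := Nat.card_pos
    by_contra hcon
    push Not at hcon
    have h7 : c * Nat.card (ConjClasses X) * d ^ 2 ≤ r ^ (2 * i) * d ^ 2 := Nat.mul_le_mul_right _ hcon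
    have h8 : c * Nat.card X ≤ c * (Nat.card (ConjClasses X) * d ^ 2) := Nat.mul_le_mul_left _ hbig
    have h9 : c * (Nat.card (ConjClasses X) * d ^ 2) = c * Nat.card (ConjClasses X) * d ^ 2 := by ring
    have h10 : r ^ (2 * i) * d ^ 2 = d ^ 2 * r ^ (2 * i) := mul_comm _ _
    omega
  obtain ⟨χ, d, hχ, hnt, hd, hd1, hd2⟩ := hcov (V.subgroupOf N) r hr hVcard hVc hNc ⟨e⟩ i hi
  obtain ⟨D', hD', hdvd, hdiv⟩ := key χ d hχ hnt hd
  have h2 := pos_of_mem hD'
  have h3 : D' = d * r ^ i * (D' / (d * r ^ i)) := (Nat.mul_div_cancel' hdvd).symm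
  have h1 := Nat.le_of_dvd (Nat.pos_of_ne_zero hm0) hdiv
  have h4 : D' / (d * r ^ i) = 0 ∨ D' / (d * r ^ i) = 1 ∨ (D' / (d * r ^ i) = 2 ∧ 1 < m) := by
    generalize D' / (d * r ^ i) = q at h1 ⊢
    omega
  rcases h4 with h4 | h4 | ⟨h4, h5⟩
  · rw [h4, mul_zero] at h3
    omega
  · rw [h4, mul_one] at h3
    exact hd1 (h3 ▸ h hD')
  · rw [h4, mul_comm] at h3
    rcases hd2 with hd2 | hd2
    · exact hd2 (h3 ▸ h hD')
    · exact hd2 ((hm2 h5).trans h)

/-- the input of the assembly (helper529) -/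
theorem noCentral_of {X : Type v} [Group X] [Finite X] [IsSimpleGroup X] (hX : ¬ IsMulCommutative X) {c : ℕ}
    (h1c : 1 ≤ c) (hc : c ≤ 2) (R : Row3.{u} c X) (D : Set ℕ) (hD : Deg c X D) : H529.S8.NoCentral.{u, v} D X :=
  central3 hX h1c hc R.out.1 hD (R.cover D hD) (fun V _ h1 h2 h3 => R.mult V h1 h2 h3)

end Cfsg.Agent.H595.SD
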