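import Cfsg.Agent.H704.S8.Defs2
import Cfsg.Agent.H515.S8.End
import Cfsg.Agent.H142.AN.E1
import Cfsg.Agent.H595.GoUp

/-!
# S4908, box CENTRAL: no central chief factor below a sporadic group (helper595)

`central` : `charDegrees G ⊆ D`, `N / V = X`, `V` a minimal normal subgroup of `G`, central in the perfect group `N`: impossible
if `Cover' D X` and the central kernels are cyclic.
-/

set_option autoImplicit false
set_option linter.unusedSectionVars false
set_option linter.style.haveILetI false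

namespace Cfsg.Agent.H595.SD

open Cfsg Cfsg.Agent.Characters.Core Cfsg.Agent.H424.DegTools Cfsg.Agent.H704.S8 Cfsg.Agent.H515.S8
open Cfsg.Agent.H142.AN (comm_of_degrees exists_prod exists_max)

universe u v

/-- `G / N` is abelian (the proof of helper515, with inclusions of degree sets) -/
theorem quot_comm {X : Type v} [Group X] [Finite X] [IsSimpleGroup X] (hX : ¬ IsMulCommutative X)
    (hIi : (MulAut.conj : X →* MulAut X).range.index ≤ 2)
    {G : Type u} [Group G] [Finite G] {b : ℕ} (hb : b ∈ charDegrees X) (hle2 : ∀ d ∈ charDegrees G, d ≤ 2 * b)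
    (h2G : 2 ∉ charDegrees G) (N : Subgroup G) [N.Normal] (e : N ≃* X) (x y : G ⧸ N) : x * y = y * x := by
  classical
  obtain ⟨π, hπ, hπ1⟩ := exists_pi N e
  set I : Subgroup (MulAut X) := (MulAut.conj : X →* MulAut X).range with hI
  have hIn : I.Normal := by
    refine ⟨fun a ha g => ?_⟩
    obtain ⟨x, rfl⟩ := ha
    refine ⟨g x, ?_⟩
    apply MulEquiv.ext
    intro y
    change g x * y * (g x)⁻¹ = g (x * g⁻¹ y * x⁻¹)
    rw [map_mul, map_mul, map_inv, MulAut.apply_inv_self]
  have hfin : Finite (MulAut X) := inferInstance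
  -- `Inn X` is simple
  have hcinj := conj_injective hX
  let ec : X ≃* I := MonoidHom.ofInjective hcinj
  have hb0 := pos_of_mem hb
  have hsub : charDegrees (G ⧸ N) ⊆ charDegrees G :=
    charDegrees_of_surjective (QuotientGroup.mk' N) (QuotientGroup.mk'_surjective N)
  have hle : I ≤ π.range := by
    rintro _ ⟨y, rfl⟩
    refine ⟨(e.symm y : N), ?_⟩
    rw [hπ, e.apply_symm_apply]
  have hpN : ∀ x ∈ N, π x ∈ I := fun x hx => ⟨e ⟨x, hx⟩, (hπ ⟨x, hx⟩).symm⟩
  have hinj : ∀ g ∈ N, π g = 1 → g = 1 := by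
    intro g hg h1
    have h4 := hπ ⟨g, hg⟩
    rw [show ((⟨g, hg⟩ : N) : G) = g from rfl, h1] at h4
    have h5 : e ⟨g, hg⟩ = 1 := hcinj (by rw [← h4, map_one])
    have h6 := (map_eq_one_iff e e.injective).1 h5
    exact congrArg Subtype.val h6
  -- `G / N` is abelian
  have hI1 : ∀ x : MulAut X, ∀ hx : x ∈ I, MulAut.conj (ec.symm ⟨x, hx⟩) = x := by
    intro x hx
    exact congrArg Subtype.val (ec.apply_symm_apply ⟨x, hx⟩)
  have hcomm : ∀ x y : G ⧸ N, x * y = y * x := by
    have hcase : π.range = I ∨ (I.index = 2 ∧ Function.Surjective π) := by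
      rcases or_top hIi hle with hr | hr
      · exact Or.inl hr
      · rcases Nat.lt_or_ge I.index 2 with h1 | h1
        · left
          have h2 : 0 < I.index := Nat.pos_of_ne_zero Subgroup.FiniteIndex.index_ne_zero
          rw [hr, Subgroup.index_eq_one.1 (show I.index = 1 by omega)]
        · exact Or.inr ⟨le_antisymm hIi h1, MonoidHom.range_eq_top.1 hr⟩
    rcases hcase with hr | ⟨hI2, hsurj⟩
    · -- `G = N C(N)`
      have hpi : ∀ g, π g ∈ I := fun g => by rw [← hr]; exact ⟨g, rfl⟩
      let p : G →* X := ec.symm.toMonoidHom.comp (π.codRestrict I hpi)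
      have hp : ∀ x : N, p x = e x := by
        intro x
        apply ec.injective
        apply Subtype.ext
        change ((ec (ec.symm (π.codRestrict I hpi x))) : MulAut X) = MulAut.conj (e x)
        rw [ec.apply_symm_apply, ← hπ]
        rfl
      obtain ⟨E⟩ := exists_prod N p (by
        intro x y hxy
        apply e.injective
        rw [← hp, ← hp]
        exact hxy) (by
        intro y
        refine ⟨e.symm y, ?_⟩
        change p (e.symm y : N) = _
        rw [hp, e.apply_symm_apply])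
      apply comm_of_degrees
      intro d hd
      have h1 : b * d ∈ charDegrees G := by
        rw [charDegrees_congr E]
        exact mul_mem_prod hb hd
      have h2 := hle2 _ h1
      have h3 : d ≤ 2 := Nat.le_of_mul_le_mul_left (by rwa [mul_comm 2 b] at h2) hb0
      have h4 := pos_of_mem hd
      have h5 : d ≠ 2 := fun h6 => h2G (h6 ▸ hsub hd)
      omega
    · set L := I.comap π with hL
      have hLn : L.Normal := by rw [hL]; infer_instance
      have hLi : L.index = 2 := by
        rw [hL, Subgroup.index_comap_of_surjective _ hsurj]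
        exact hI2
      have hNL : N ≤ L := fun x hx => by
        rw [hL, Subgroup.mem_comap]
        exact hpN x hx
      let p : L →* X := ec.symm.toMonoidHom.comp ((π.comp L.subtype).codRestrict I fun g => g.2)
      have hp0 : ∀ x : L, MulAut.conj (p x) = π x := fun x => hI1 _ x.2
      have hp : ∀ (x : G) (hx : x ∈ N), p ⟨x, hNL hx⟩ = e ⟨x, hx⟩ := by
        intro x hx
        apply hcinj
        rw [hp0, ← hπ]
      obtain ⟨E⟩ := exists_prod (N.subgroupOf L) p (by
        rintro ⟨x, hx⟩ ⟨y, hy⟩ hxy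
        have h1 : p x = p y := hxy
        have hx' : (x : G) ∈ N := hx
        have hy' : (y : G) ∈ N := hy
        have h4 : e ⟨x, hx'⟩ = e ⟨y, hy'⟩ := by
          rw [← hp, ← hp]
          exact h1
        have h5 := congrArg Subtype.val (e.injective h4)
        exact Subtype.ext (Subtype.ext h5)) (by
        intro y
        refine ⟨⟨⟨(e.symm y : N), hNL (e.symm y).2⟩, (e.symm y).2⟩, ?_⟩
        change p ⟨(e.symm y : N), hNL (e.symm y).2⟩ = _
        rw [hp]
        exact e.apply_symm_apply y)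
      have hcommH : ∀ x y : L ⧸ N.subgroupOf L, x * y = y * x := by
        apply comm_of_degrees
        intro c hc
        obtain ⟨θ, hθ, hθ1⟩ := mem_charDegrees.1 hb
        obtain ⟨μ, hμ, hμ1⟩ := mem_charDegrees.1 hc
        obtain ⟨g0, hg0⟩ : ∃ g0 : G, g0 ∉ L := by
          by_contra hcon
          push Not at hcon
          have h1 : L = ⊤ := (Subgroup.eq_top_iff' L).2 hcon
          rw [h1, Subgroup.index_top] at hLi
          norm_num at hLi
        let F : L →* X × (L ⧸ N.subgroupOf L) := p.prod (QuotientGroup.mk' (N.subgroupOf L))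
        have hF : Function.Surjective F := by
          rintro ⟨x, q⟩
          obtain ⟨g, rfl⟩ := QuotientGroup.mk_surjective q
          refine ⟨g * ⟨(e.symm ((p g)⁻¹ * x) : N), hNL (e.symm _).2⟩, Prod.ext ?_ ?_⟩
          · change p (g * ⟨(e.symm ((p g)⁻¹ * x) : N), hNL (e.symm _).2⟩) = x
            rw [map_mul, hp _ (e.symm _).2]
            change p g * e (e.symm ((p g)⁻¹ * x)) = x
            rw [e.apply_symm_apply, mul_inv_cancel_left]
          · change (QuotientGroup.mk (g * ⟨(e.symm ((p g)⁻¹ * x) : N), hNL (e.symm _).2⟩) : L ⧸ N.subgroupOf L) =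
              QuotientGroup.mk g
            rw [QuotientGroup.mk_mul_of_mem]
            exact (e.symm ((p g)⁻¹ * x)).2
        have hψ : IsIrrCharacter L ((fun x : X × (L ⧸ N.subgroupOf L) => θ x.1 * μ x.2) ∘ F) :=
          isIrr_comp F hF (S0188.isIrr_outer hθ hμ)
        have hψv : ∀ g : L, ((fun x : X × (L ⧸ N.subgroupOf L) => θ x.1 * μ x.2) ∘ F) g =
          θ (p g) * μ (QuotientGroup.mk g) := fun _ => rfl
        have hψ1 : ((fun x : X × (L ⧸ N.subgroupOf L) => θ x.1 * μ x.2) ∘ F) 1 = (b * c : ℕ) := by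
          rw [hψv, map_one, QuotientGroup.mk_one, hθ1, hμ1]
          push_cast; rfl
        have hθ0 : θ 1 ≠ 0 := isIrr_apply_one_ne_zero hθ
        have hc0 := pos_of_mem hc
        rcases H348.PPD.Dich.dich L hLi hψ with ⟨χ, hχ, hχe⟩ | ⟨χ, hχ, -, hχm⟩
        · have h1 : b * c ∈ charDegrees G := by
            refine mem_charDegrees.2 ⟨χ, hχ, ?_⟩
            have h2 := hχe 1
            rw [OneMemClass.coe_one] at h2
            rw [h2, hψ1]
          have h2 := hle2 _ h1
          have h3 : c ≤ 2 := Nat.le_of_mul_le_mul_left (by rwa [mul_comm 2 b] at h2) hb0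
          by_contra hcon
          have h4 : c = 2 := by omega
          have hz : ∀ z : L, p z = 1 → ∀ g : G, μ (QuotientGroup.mk (MulAut.conjNormal g z)) = μ (QuotientGroup.mk z) := by
            intro z hz g
            have h5 : p (MulAut.conjNormal g z) = 1 := by
              apply hcinj
              rw [hp0, MulAut.conjNormal_apply, map_mul, map_mul, map_inv, ← hp0, hz, map_one, mul_one, mul_inv_cancel]
            have h6 : χ (g * z * g⁻¹) = χ z := isIrr_isClassFunction hχ _ _
            have h7 := hχe (MulAut.conjNormal g z)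
            have h8 := hχe z
            rw [hψv, h5] at h7
            rw [hψv, hz] at h8
            rw [MulAut.conjNormal_apply, h6, h8] at h7
            exact (mul_left_cancel₀ hθ0 h7).symm
          have hinv : ∀ (g : G) (x : L), μ (QuotientGroup.mk (MulAut.conjNormal g x)) = μ (QuotientGroup.mk x) := by
            intro g x
            let n : L := ⟨(e.symm (p x) : N), hNL (e.symm _).2⟩
            have hn : n ∈ N.subgroupOf L := (e.symm (p x)).2
            have hpn : p n = p x := by
              change p ⟨(e.symm (p x) : N), hNL (e.symm _).2⟩ = p x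
              rw [hp _ (e.symm _).2]
              exact e.apply_symm_apply _
            have h5 : p (n⁻¹ * x) = 1 := by rw [map_mul, map_inv, hpn, inv_mul_cancel]
            have h6 := hz _ h5 g
            have h7 : (QuotientGroup.mk (n⁻¹ * x) : L ⧸ N.subgroupOf L) = QuotientGroup.mk x := by
              rw [QuotientGroup.mk_mul, QuotientGroup.mk_inv, (QuotientGroup.eq_one_iff n).2 hn, inv_one, one_mul]
            have h8 : (QuotientGroup.mk (MulAut.conjNormal g (n⁻¹ * x)) : L ⧸ N.subgroupOf L) =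
                QuotientGroup.mk (MulAut.conjNormal g x) := by
              have h9 : MulAut.conjNormal g n ∈ N.subgroupOf L := by
                rw [Subgroup.mem_subgroupOf, MulAut.conjNormal_apply]
                exact (inferInstance : N.Normal).conj_mem _ hn g
              rw [map_mul, map_inv, QuotientGroup.mk_mul, QuotientGroup.mk_inv, (QuotientGroup.eq_one_iff _).2 h9,
                inv_one, one_mul]
            rw [h7, h8] at h6
            exact h6
          have hirr : IsIrrCharacter L (μ ∘ (QuotientGroup.mk' (N.subgroupOf L))) :=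
            isIrr_comp _ (QuotientGroup.mk'_surjective _) hμ
          rcases H348.PPD.Dich.dich L hLi hirr with ⟨η, hη, hηe⟩ | ⟨η, hη, -, hηm⟩
          · apply h2G
            refine mem_charDegrees.2 ⟨η, hη, ?_⟩
            have h5 := hηe 1
            rw [OneMemClass.coe_one] at h5
            rw [h5, Function.comp_apply, map_one, hμ1, h4]
          · apply (hηm g0 hg0).2
            funext x
            exact hinv g0 x
        · have h1 : 2 * (b * c) ∈ charDegrees G := by
            refine mem_charDegrees.2 ⟨χ, hχ, ?_⟩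
            have h2 := (hχm g0 hg0).1 1
            rw [OneMemClass.coe_one, map_one, hψ1] at h2
            rw [h2]
            push_cast; ring
          have h2 := hle2 _ h1
          have h3 : c ≤ 1 := by
            by_contra hcon
            have h4 : 2 ≤ c := by omega
            nlinarith
          omega
      apply comm_of_degrees
      intro c hc
      have h1 : c ∈ charDegrees G := hsub hc
      have h2 : c ∣ (L.map (QuotientGroup.mk' N)).index := by
        have : (L.map (QuotientGroup.mk' N)).Normal := hLn.map _ (QuotientGroup.mk'_surjective N)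
        refine ito hc _ ?_
        rintro _ ⟨x, hx, rfl⟩ _ ⟨y, hy, rfl⟩
        have h3 := hcommH (QuotientGroup.mk (⟨x, hx⟩ : L)) (QuotientGroup.mk (⟨y, hy⟩ : L))
        rw [← QuotientGroup.mk_mul, ← QuotientGroup.mk_mul, QuotientGroup.eq] at h3
        rw [← map_mul, ← map_mul]
        exact QuotientGroup.eq.2 h3
      have h3 : (L.map (QuotientGroup.mk' N)).index ∣ 2 := by
        rw [← hLi]
        exact Subgroup.index_map_dvd _ (QuotientGroup.mk'_surjective N)
      have h4 := Nat.le_of_dvd (by norm_num) (h2.trans h3)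
      have h5 := pos_of_mem hc
      have h6 : c ≠ 2 := fun h7 => h2G (h7 ▸ h1)
      omega
  exact hcomm x y

/-- the degree sets in question -/
theorem deg_bound {X : Type v} [Group X] [Finite X] [IsSimpleGroup X] (hX : ¬ IsMulCommutative X) {c : ℕ}
    (hI : (MulAut.conj : X →* MulAut X).range.index ≤ 2) {D : Set ℕ} (hD : Deg c X D) {b : ℕ}
    (hmax : ∀ d ∈ charDegrees X, d ≤ b) : (∀ d ∈ D, d ≤ 2 * b) ∧ 2 ∉ D := by
  rcases hD with rfl | ⟨-, rfl⟩
  · refine ⟨fun d hd => ?_, H681.SimpleChar.degree_ne_two fun h => hX ⟨⟨h⟩⟩⟩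
    have := hmax d hd
    omega
  · set I : Subgroup (MulAut X) := (MulAut.conj : X →* MulAut X).range with hIdef
    have hIn : I.Normal := by
      refine ⟨fun a ha g => ?_⟩
      obtain ⟨x, rfl⟩ := ha
      refine ⟨g x, ?_⟩
      apply MulEquiv.ext
      intro y
      change g x * y * (g x)⁻¹ = g (x * g⁻¹ y * x⁻¹)
      rw [map_mul, map_mul, map_inv, MulAut.apply_inv_self]
    let ec : X ≃* I := MonoidHom.ofInjective (conj_injective hX)
    have hs : IsSimpleGroup I := ec.symm.isSimpleGroup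
    constructor
    · intro d hd
      obtain ⟨a, ha, had, hq⟩ := clifford_down I hd
      rw [← charDegrees_congr ec] at ha
      have h1 := hmax a ha
      have h2 := Nat.le_of_dvd (Nat.pos_of_ne_zero Subgroup.FiniteIndex.index_ne_zero) hq
      calc d = a * (d / a) := (Nat.mul_div_cancel' had).symm
        _ ≤ b * 2 := Nat.mul_le_mul h1 (h2.trans hI)
        _ = 2 * b := mul_comm _ _
    · refine two_notMem I (fun hcon => hX ⟨⟨fun a b => ?_⟩⟩) hI
      apply ec.injective
      rw [map_mul, map_mul]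
      exact hcon.is_comm.comm _ _

/-- characters of central type -/
theorem sq_eq {C : Type u} [Group C] [Finite C] {χ : C → ℂ} (hχ : IsIrrCharacter C χ) {d : ℕ} (h1 : χ 1 = d)
    (hv : ∀ x, x ∉ Subgroup.center C → χ x = 0) : d ^ 2 = (Subgroup.center C).index := by
  classical
  have := Fintype.ofFinite C
  set Z := Subgroup.center C with hZ
  have hval : ∀ z ∈ Z, Complex.normSq (χ z) = (d : ℝ) ^ 2 := by
    intro z hz
    obtain ⟨w, hw, hw'⟩ := CharDeep.DegreeBound.exists_omega hχ hz
    have h2 := hw' 1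
    rw [one_mul, h1] at h2
    rw [h2, Complex.normSq_mul, Complex.normSq_eq_norm_sq, hw, Complex.normSq_natCast]
    ring
  have h3 := classInner_irr_self hχ
  rw [classInner_self_eq_ofReal] at h3
  have h4 : (Nat.card C : ℝ)⁻¹ * ∑ g : C, Complex.normSq (χ g) = 1 := by exact_mod_cast h3
  have hG : (0 : ℝ) < Nat.card C := by exact_mod_cast Nat.card_pos
  have h5 : ∑ g : C, Complex.normSq (χ g) = Nat.card C := by
    field_simp at h4
    exact h4
  have h6 : ∑ g ∈ Finset.univ.filter (· ∈ Z), Complex.normSq (χ g) = ∑ g : C, Complex.normSq (χ g) := by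
    refine Finset.sum_subset (Finset.filter_subset _ _) fun x _ hx => ?_
    rw [Finset.mem_filter, not_and] at hx
    rw [hv x (hx (Finset.mem_univ _)), map_zero]
  have h7 : ∑ g ∈ Finset.univ.filter (· ∈ Z), Complex.normSq (χ g) =
      Nat.card Z * (d : ℝ) ^ 2 := by
    rw [Finset.sum_congr rfl (fun g hg => hval g (Finset.mem_filter.1 hg).2), Finset.sum_const,
      nsmul_eq_mul]
    congr 2
    rw [← Fintype.card_subtype, ← Nat.card_eq_fintype_card]
  rw [← h6, h7] at h5
  have h8 : Nat.card Z * d ^ 2 = Nat.card C := by exact_mod_cast h5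
  rw [← Z.card_mul_index] at h8
  exact Nat.eq_of_mul_eq_mul_left Nat.card_pos h8

/-- groups with a central derived subgroup of prime order -/
theorem deg_class_two {C : Type u} [Group C] [Finite C] (V : Subgroup C) {r : ℕ} (hr : r.Prime) (hV : Nat.card V = r)
    (hVc : V ≤ Subgroup.center C) (hC : ∀ a b : C, a * b * a⁻¹ * b⁻¹ ∈ V) :
    ∃ i : ℕ, ∀ χ : C → ℂ, IsIrrCharacter C χ → (∃ v ∈ V, χ v ≠ χ 1) → χ 1 = ((r ^ i : ℕ) : ℂ) := by
  classical
  have := Fintype.ofFinite C
  have := Fact.mk hr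
  have hpow : ∀ v ∈ V, v ^ r = 1 := by
    intro v hv
    have h1 : (⟨v, hv⟩ : V) ^ r = 1 := by rw [← hV]; exact pow_card_eq_one'
    exact congrArg Subtype.val h1
  have hcm : ∀ v ∈ V, ∀ x : C, v * x = x * v := fun v hv x => (Subgroup.mem_center_iff.1 (hVc hv) x).symm
  have hxr : ∀ x : C, x ^ r ∈ Subgroup.center C := by
    intro x
    rw [Subgroup.mem_center_iff]
    intro y
    have hv := hC x y
    have h1 : ∀ n : ℕ, x ^ n * y = (x * y * x⁻¹ * y⁻¹) ^ n * (y * x ^ n) := by
      intro n
      induction n with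
      | zero => simp
      | succ n ih =>
        have h2 : x * y = (x * y * x⁻¹ * y⁻¹) * (y * x) := by group
        calc x ^ (n + 1) * y = x ^ n * (x * y) := by rw [pow_succ, mul_assoc]
          _ = x ^ n * ((x * y * x⁻¹ * y⁻¹) * (y * x)) := by rw [← h2]
          _ = (x ^ n * (x * y * x⁻¹ * y⁻¹)) * (y * x) := (mul_assoc _ _ _).symm
          _ = ((x * y * x⁻¹ * y⁻¹) * x ^ n) * (y * x) := by rw [hcm _ hv]
          _ = (x * y * x⁻¹ * y⁻¹) * (x ^ n * y) * x := by simp only [mul_assoc]
          _ = (x * y * x⁻¹ * y⁻¹) * ((x * y * x⁻¹ * y⁻¹) ^ n * (y * x ^ n)) * x := by rw [ih]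
          _ = (x * y * x⁻¹ * y⁻¹) ^ (n + 1) * (y * x ^ (n + 1)) := by
            rw [pow_succ' (x * y * x⁻¹ * y⁻¹), pow_succ x]
            simp only [mul_assoc]
    have h2 := h1 r
    rw [hpow _ hv, one_mul] at h2
    exact h2.symm
  obtain ⟨k, hk⟩ : ∃ k, (Subgroup.center C).index = r ^ k := by
    have hp : IsPGroup r (C ⧸ Subgroup.center C) := by
      intro q
      obtain ⟨x, rfl⟩ := QuotientGroup.mk_surjective q
      refine ⟨1, ?_⟩
      rw [pow_one, ← QuotientGroup.mk_pow, QuotientGroup.eq_one_iff]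
      exact hxr x
    obtain ⟨k, hk⟩ := IsPGroup.iff_card.1 hp
    exact ⟨k, by rw [Subgroup.index_eq_card, hk]⟩
  refine ⟨k / 2, fun χ hχ hnt => ?_⟩
  obtain ⟨d, -, hd⟩ := isIrr_apply_one hχ
  have hvan : ∀ x, x ∉ Subgroup.center C → χ x = 0 := by
    intro x hx
    rw [Subgroup.mem_center_iff] at hx
    push Not at hx
    obtain ⟨y, hy⟩ := hx
    have hv := hC y x
    set v := y * x * y⁻¹ * x⁻¹ with hvdef
    obtain ⟨w, -, hw⟩ := CharDeep.DegreeBound.exists_omega hχ (hVc hv)
    by_contra h0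
    have h1 : χ (y * x * y⁻¹) = χ x := isIrr_isClassFunction hχ _ _
    have h2 : y * x * y⁻¹ = x * v := by
      rw [← hcm v hv, hvdef]; group
    rw [h2, hw] at h1
    have hw1 : w = 1 := mul_right_cancel₀ h0 (by rw [h1, one_mul])
    have hpw : ∀ n : ℕ, χ (v ^ n) = χ 1 := by
      intro n
      induction n with
      | zero => rw [pow_zero]
      | succ n ih => rw [pow_succ, hw, ih, hw1, one_mul]
    obtain ⟨t, ht, ht1⟩ := hnt
    apply ht1
    have hne : (⟨v, hv⟩ : V) ≠ 1 := by
      intro h3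
      have h4 : v = 1 := congrArg Subtype.val h3
      apply hy
      have h5 : y * x = v * (x * y) := by rw [hvdef]; group
      rw [h5, h4, one_mul]
    have hz : (⟨t, ht⟩ : V) ∈ Subgroup.zpowers (⟨v, hv⟩ : V) := mem_zpowers_of_prime_card (by rw [hV]) hne
    obtain ⟨n, hn⟩ := (mem_powers_iff_mem_zpowers.2 hz)
    have hn' : v ^ n = t := congrArg Subtype.val hn
    rw [← hn', hpw]
  have h1 := sq_eq hχ hd hvan
  rw [hk] at h1
  obtain ⟨j, -, rfl⟩ := (Nat.dvd_prime_pow hr).1 (show d ∣ r ^ k from ⟨d, by rw [← h1, sq]⟩)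
  rw [← pow_mul] at h1
  have h2 : j * 2 = k := Nat.pow_right_injective hr.two_le h1
  rw [hd, show k / 2 = j by omega]

/-- an element acting trivially modulo a central subgroup of a perfect group -/
theorem cent_of_mod {G : Type u} [Group G] {N V : Subgroup G} (hVN : V ≤ N)
    (hperf : commutator N = ⊤) (hcen : ∀ v ∈ V, ∀ n ∈ N, v * n = n * v) {t : G}
    (ht : ∀ m ∈ N, t * m * t⁻¹ * m⁻¹ ∈ V) : ∀ m ∈ N, t * m = m * t := by
  let δ : N →* V :=
    { toFun := fun m => ⟨t * m * t⁻¹ * (m : G)⁻¹, ht m m.2⟩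
      map_one' := Subtype.ext (by simp)
      map_mul' := fun a b => Subtype.ext (by
        show t * (a * b : G) * t⁻¹ * (a * b : G)⁻¹ = (t * a * t⁻¹ * (a : G)⁻¹) * (t * b * t⁻¹ * (b : G)⁻¹)
        have h1 := hcen _ (ht b b.2) _ (N.inv_mem a.2)
        calc t * (a * b : G) * t⁻¹ * (a * b : G)⁻¹ = t * a * t⁻¹ * ((t * b * t⁻¹ * (b : G)⁻¹) * (a : G)⁻¹) := by group
          _ = t * a * t⁻¹ * ((a : G)⁻¹ * (t * b * t⁻¹ * (b : G)⁻¹)) := by rw [h1]
          _ = _ := by group) }
  have h1 : commutator N ≤ δ.ker := by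
    rw [_root_.commutator_def, Subgroup.commutator_le]
    intro a _ b _
    rw [MonoidHom.mem_ker, map_commutatorElement, commutatorElement_eq_one_iff_mul_comm]
    exact Subtype.ext (hcen _ (δ a).2 _ (hVN (δ b).2))
  intro m hm
  have h2 : (⟨m, hm⟩ : N) ∈ δ.ker := h1 (by rw [hperf]; trivial)
  have h3 : t * m * t⁻¹ * m⁻¹ = 1 := congrArg Subtype.val (MonoidHom.mem_ker.1 h2)
  calc t * m = t * m * t⁻¹ * m⁻¹ * (m * t) := by group
    _ = m * t := by rw [h3, one_mul]

/-- **CENTRAL.** -/
theorem central {X : Type v} [Group X] [Finite X] [IsSimpleGroup X] (hX : ¬ IsMulCommutative X) {c : ℕ} (hc : c ≤ 2)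
    (hidx : (MulAut.conj : X →* MulAut X).range.index ≤ c) {D : Set ℕ} (hD : Deg c X D) (hcov : Cover'.{u} D X)
    (hmult : ∀ {N : Type u} [Group N] [Finite N] (V : Subgroup N) [V.Normal], V ≤ Subgroup.center N →
      commutator N = ⊤ → Nonempty ((N ⧸ V) ≃* X) → IsCyclic V)
    {G : Type u} [Group G] [Finite G] (h : charDegrees G ⊆ D) (N V : Subgroup G) [hN : N.Normal] [hVn : V.Normal]
    (hVN : V ≤ N) (e : (N ⧸ V.subgroupOf N) ≃* X) (hperf : ⁅N, N⁆ = N) (hne : V ≠ ⊥)
    (hmin : ∀ K : Subgroup G, K.Normal → K ≤ V → K = ⊥ ∨ K = V) (hcen : ∀ v ∈ V, ∀ n ∈ N, v * n = n * v) : False := by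
  classical
  have hI2 := hidx.trans hc
  have hna : ¬ ∀ a b : X, a * b = b * a := fun h => hX ⟨⟨h⟩⟩
  -- `N` is perfect
  have hNc : commutator N = ⊤ := by
    have h3 : (commutator N).map N.subtype = N := by
      rw [Subgroup.map_subtype_commutator, hperf]
    rw [eq_top_iff]
    intro x _
    have h4 : (x : G) ∈ (commutator N).map N.subtype := by rw [h3]; exact x.2
    obtain ⟨y, hy, hyx⟩ := h4
    have : y = x := Subtype.ext hyx
    rwa [← this]
  set V' : Subgroup N := V.subgroupOf N with hV'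
  have hV'c : V' ≤ Subgroup.center N := by
    intro v hv
    rw [Subgroup.mem_center_iff]
    intro n
    exact Subtype.ext (hcen _ hv _ n.2).symm
  let eV : V' ≃* V := Subgroup.subgroupOfEquivOfLe hVN
  have hcyc' : IsCyclic V' := hmult V' hV'c hNc ⟨e⟩
  have hcyc : IsCyclic V := isCyclic_of_surjective eV eV.surjective
  -- `V` has prime order
  have hV1 : Nat.card V ≠ 1 := fun h1 => hne (Subgroup.card_eq_one.1 h1)
  obtain ⟨r, hr, hrd⟩ := Nat.exists_prime_and_dvd hV1
  have := Fact.mk hr
  have hVr : ∀ v ∈ V, v ^ r = 1 := by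
    let W : Subgroup G :=
      { carrier := {v | v ∈ V ∧ v ^ r = 1}
        one_mem' := ⟨V.one_mem, one_pow r⟩
        mul_mem' := fun {a b} ha hb => ⟨V.mul_mem ha.1 hb.1, by
          rw [(show Commute a b from hcen a ha.1 b (hVN hb.1)).mul_pow, ha.2, hb.2, one_mul]⟩
        inv_mem' := fun {a} ha => ⟨V.inv_mem ha.1, by rw [inv_pow, ha.2, inv_one]⟩ }
    have hWn : W.Normal := ⟨fun v hv g => ⟨hVn.conj_mem v hv.1 g, by rw [conj_pow, hv.2, mul_one, mul_inv_cancel]⟩⟩
    have hWV : W ≤ V := fun v hv => hv.1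
    rcases hmin W hWn hWV with h1 | h1
    · exfalso
      obtain ⟨v, hv⟩ := exists_prime_orderOf_dvd_card' (G := V) r hrd
      have h2 : (v : G) ∈ W := ⟨v.2, by
        have h3 : v ^ r = 1 := by rw [← hv, pow_orderOf_eq_one]
        exact congrArg Subtype.val h3⟩
      rw [h1, Subgroup.mem_bot] at h2
      have h3 : v = 1 := Subtype.ext h2
      rw [h3, orderOf_one] at hv
      exact hr.one_lt.ne hv
    · intro v hv
      rw [← h1] at hv
      exact hv.2
  have hVcard : Nat.card V = r := by
    obtain ⟨g, hg⟩ := hcyc.exists_generator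
    have h1 : orderOf g = Nat.card V := orderOf_eq_card_of_forall_mem_zpowers hg
    have h2 : orderOf g ∣ r := orderOf_dvd_of_pow_eq_one (Subtype.ext (hVr g g.2))
    rw [h1] at h2
    exact ((Nat.dvd_prime hr).1 h2).resolve_left hV1
  have hVcard' : Nat.card V' = r := by rw [Nat.card_congr eV.toEquiv, hVcard]
  -- the quotient
  obtain ⟨b, hb, hmax⟩ := exists_max (G := X)
  obtain ⟨hDb, hD2⟩ := deg_bound hX hI2 hD hmax
  have hsurj := QuotientGroup.mk'_surjective V
  have iNb : (N.map (QuotientGroup.mk' V)).Normal := hN.map _ hsurj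
  set Nb := N.map (QuotientGroup.mk' V) with hNb
  let f0 : N →* Nb := (QuotientGroup.mk' V).subgroupMap N
  have hf0 : Function.Surjective f0 := (QuotientGroup.mk' V).subgroupMap_surjective N
  have hker0 : f0.ker = V' := by
    ext x
    rw [MonoidHom.mem_ker, Subgroup.mem_subgroupOf, Subtype.ext_iff]
    change (QuotientGroup.mk' V) (x : G) = 1 ↔ _
    rw [QuotientGroup.mk'_apply, QuotientGroup.eq_one_iff]
  let eb : Nb ≃* X := ((QuotientGroup.quotientMulEquivOfEq hker0).symm.trans
    (QuotientGroup.quotientKerEquivOfSurjective f0 hf0)).symm.trans e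
  have hq := quot_comm hX hI2 hb (G := G ⧸ V)
    (fun d hd => hDb d (h (charDegrees_of_surjective (QuotientGroup.mk' V) hsurj hd)))
    (fun h2 => hD2 (h (charDegrees_of_surjective (QuotientGroup.mk' V) hsurj h2))) Nb eb
  have hcG : ∀ x y : G, x * y * x⁻¹ * y⁻¹ ∈ N := by
    intro x y
    have h1 := hq (QuotientGroup.mk (QuotientGroup.mk x)) (QuotientGroup.mk (QuotientGroup.mk y))
    rw [← QuotientGroup.mk_mul, ← QuotientGroup.mk_mul, ← QuotientGroup.mk_mul, ← QuotientGroup.mk_mul, eq_comm,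
      QuotientGroup.eq, ← QuotientGroup.mk_inv, ← QuotientGroup.mk_mul] at h1
    obtain ⟨n, hn, h2⟩ := h1
    have h3 : n⁻¹ * ((y * x)⁻¹ * (x * y)) ∈ V := QuotientGroup.eq.1 h2
    have h4 : (y * x)⁻¹ * (x * y) ∈ N := by
      have h5 := N.mul_mem hn (hVN h3)
      rwa [mul_inv_cancel_left] at h5
    have h5 := hN.conj_mem _ h4 (y * x)
    have h6 : y * x * ((y * x)⁻¹ * (x * y)) * (y * x)⁻¹ = x * y * x⁻¹ * y⁻¹ := by group
    rwa [h6] at h5
  -- the centralizer
  set C := Subgroup.centralizer (N : Set G) with hC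
  have iC : C.Normal := by rw [hC]; infer_instance
  have hCm : ∀ {x : G}, x ∈ C ↔ ∀ n ∈ N, n * x = x * n := by
    intro x
    rw [hC, Subgroup.mem_centralizer_iff]
    rfl
  have hNC : ∀ z ∈ N, z ∈ C → z ∈ V := by
    intro z hz hzC
    have h1 : e (QuotientGroup.mk ⟨z, hz⟩) = 1 := by
      apply H681.SimpleChar.eq_one_of_central hna
      intro y
      obtain ⟨q, rfl⟩ := e.surjective y
      obtain ⟨n, rfl⟩ := QuotientGroup.mk_surjective q
      rw [← map_mul, ← map_mul, ← QuotientGroup.mk_mul, ← QuotientGroup.mk_mul]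
      congr 2
      exact Subtype.ext (hCm.1 hzC n n.2).symm
    have h2 := (map_eq_one_iff e e.injective).1 h1
    exact (QuotientGroup.eq_one_iff (⟨z, hz⟩ : N)).1 h2
  have hVC : V ≤ C := fun v hv => hCm.2 fun n hn => (hcen v hv n hn).symm
  set VC : Subgroup C := V.subgroupOf C with hVCd
  have hVCcard : Nat.card VC = r := by
    rw [hVCd, Nat.card_congr (Subgroup.subgroupOfEquivOfLe hVC).toEquiv, hVcard]
  have hVCc : VC ≤ Subgroup.center C := by
    intro v hv
    rw [Subgroup.mem_center_iff]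
    intro x
    exact Subtype.ext (hCm.1 x.2 _ (hVN hv)).symm
  obtain ⟨i, hi⟩ := deg_class_two VC hr hVCcard hVCc (fun a b =>
    hNC _ (hcG a b) (C.mul_mem (C.mul_mem (C.mul_mem a.2 b.2) (C.inv_mem a.2)) (C.inv_mem b.2)))
  obtain ⟨χ, d, hχ, ⟨v, hv, hvχ⟩, hχ1, hd1, hd2⟩ := hcov V' r hr hVcard' hV'c hNc ⟨e⟩ i
  -- `K = N C`
  set K := N ⊔ C with hK
  have iK : K.Normal := by rw [hK]; infer_instance
  have hKi : K.index ≤ 2 := by
    obtain ⟨π, hπ, hπ1⟩ := exists_pi Nb eb
    set I : Subgroup (MulAut X) := (MulAut.conj : X →* MulAut X).range with hIdef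
    have hIn : I.Normal := by
      refine ⟨fun a ha g => ?_⟩
      obtain ⟨x, rfl⟩ := ha
      refine ⟨g x, ?_⟩
      apply MulEquiv.ext
      intro y
      change g x * y * (g x)⁻¹ = g (x * g⁻¹ y * x⁻¹)
      rw [map_mul, map_mul, map_inv, MulAut.apply_inv_self]
    have h1 : I.comap (π.comp (QuotientGroup.mk' V)) ≤ K := by
      intro g hg
      obtain ⟨x, hx⟩ := hg
      obtain ⟨n, hn⟩ := hf0 (eb.symm x)
      have h2 : π ((QuotientGroup.mk' V) (n : G)) = MulAut.conj x := by
        have h3 := hπ (f0 n)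
        rw [hn, eb.apply_symm_apply, ← hn] at h3
        exact h3
      have h4 : π ((QuotientGroup.mk' V) ((n : G)⁻¹ * g)) = 1 := by
        rw [map_mul, map_mul, map_inv, map_inv, h2]
        have h5 : π ((QuotientGroup.mk' V) g) = MulAut.conj x := hx.symm
        rw [h5, inv_mul_cancel]
      have h5 := (hπ1 _).1 h4
      have h6 : ∀ m ∈ N, (n : G)⁻¹ * g * m * ((n : G)⁻¹ * g)⁻¹ * m⁻¹ ∈ V := by
        intro m hm
        have h7 := h5 ((QuotientGroup.mk' V) m) ⟨m, hm, rfl⟩
        rw [← map_mul, ← map_mul] at h7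
        rw [← QuotientGroup.eq_one_iff]
        change (QuotientGroup.mk' V) ((n : G)⁻¹ * g * m * ((n : G)⁻¹ * g)⁻¹ * m⁻¹) = 1
        rw [map_mul, map_mul, h7, map_mul, map_inv, map_inv]
        group
      have h7 := cent_of_mod hVN hNc hcen h6
      have h8 : (n : G)⁻¹ * g ∈ C := hCm.2 fun m hm => (h7 m hm).symm
      have h9 : g = n * ((n : G)⁻¹ * g) := by group
      rw [h9, hK]
      exact Subgroup.mul_mem_sup n.2 h8
    have h2 : K.index ∣ (I.comap (π.comp (QuotientGroup.mk' V))).index := Subgroup.index_dvd_of_le h1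
    rw [Subgroup.index_comap] at h2
    have h3 := h2.trans (Subgroup.relIndex_dvd_index_of_normal I (π.comp (QuotientGroup.mk' V)).range)
    exact (Nat.le_of_dvd (Nat.pos_of_ne_zero Subgroup.FiniteIndex.index_ne_zero) h3).trans hI2
  have hNK : N ≤ K := le_sup_left
  have hCK : C ≤ K := le_sup_right
  let f : N × C →* K :=
    { toFun := fun x => ⟨x.1 * x.2, K.mul_mem (hNK x.1.2) (hCK x.2.2)⟩
      map_one' := Subtype.ext (by simp)
      map_mul' := fun x y => Subtype.ext (by
        show (x.1 * y.1 : G) * (x.2 * y.2) = x.1 * x.2 * (y.1 * y.2)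
        have h1 := hCm.1 x.2.2 y.1 y.1.2
        calc (x.1 * y.1 : G) * (x.2 * y.2) = x.1 * (y.1 * x.2) * y.2 := by simp only [mul_assoc]
          _ = x.1 * (x.2 * y.1) * y.2 := by rw [h1]
          _ = _ := by simp only [mul_assoc]) }
  have hf : Function.Surjective f := by
    rintro ⟨x, hx⟩
    have h1 := hx
    rw [hK, ← SetLike.mem_coe, Subgroup.normal_mul] at h1
    obtain ⟨n, hn, z, hz, rfl⟩ := h1
    exact ⟨(⟨n, hn⟩, ⟨z, hz⟩), rfl⟩
  have := Fintype.ofFinite N
  have := Fintype.ofFinite K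
  obtain ⟨ζ, hζ⟩ := H595.GoUp.exists_over (Subgroup.inclusion hNK) (Subgroup.inclusion_injective hNK) ⟨χ, hχ⟩
  obtain ⟨α, β, hα, hβ, hαβ⟩ := (S0188.result _).1 (isIrr_comp f hf ζ.2)
  have hval : ∀ (n : N) (z : C), (ζ : K → ℂ) (f (n, z)) = α n * β z := fun n z => congrFun hαβ (n, z)
  have hfn : ∀ n : N, f (n, 1) = Subgroup.inclusion hNK n := fun n => Subtype.ext (by
    show (n : G) * ((1 : C) : G) = n
    rw [OneMemClass.coe_one, mul_one])
  have hαχ : α = χ := by
    by_contra hcon
    apply hζ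
    have h1 : ((ζ : K → ℂ) ∘ (Subgroup.inclusion hNK)) = fun n => β 1 * α n := by
      funext n
      show (ζ : K → ℂ) (Subgroup.inclusion hNK n) = _
      rw [← hfn, hval, mul_comm]
    rw [h1]
    have h2 : classInner (fun n => β 1 * α n) χ = β 1 * classInner α χ := by
      have h3 : (fun n => β 1 * α n) = β 1 • α := rfl
      rw [h3, classInner_smul_left]
    show classInner (fun n => β 1 * α n) χ = 0
    rw [h2, classInner_irr_ne hα hχ hcon, mul_zero]
  have hα0 : α 1 ≠ 0 := isIrr_apply_one_ne_zero hα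
  have hβ0 : β 1 ≠ 0 := isIrr_apply_one_ne_zero hβ
  have hβr : β 1 = ((r ^ i : ℕ) : ℂ) := by
    refine hi β hβ ⟨⟨v, hVC hv⟩, hv, fun h1 => hvχ ?_⟩
    have h2 := hval v 1
    have h3 := hval 1 ⟨v, hVC hv⟩
    have h4 : f (v, 1) = f (1, ⟨v, hVC hv⟩) := Subtype.ext (by
      show (v : G) * ((1 : C) : G) = ((1 : N) : G) * v
      rw [OneMemClass.coe_one, OneMemClass.coe_one, mul_one, one_mul])
    rw [h4, h3, h1] at h2
    rw [← hαχ]
    exact (mul_right_cancel₀ hβ0 h2).symm
  have hdK : d * r ^ i ∈ charDegrees K := by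
    refine mem_charDegrees.2 ⟨ζ, ζ.2, ?_⟩
    have h1 := hval 1 1
    have h2 : f (1, 1) = 1 := map_one f
    rw [h2, hαχ, hχ1, hβr] at h1
    rw [h1]
    push_cast
    rfl
  obtain ⟨D', hD', hdvd, hdiv⟩ := clifford_up K hdK
  have h1 := Nat.le_of_dvd (Nat.pos_of_ne_zero Subgroup.FiniteIndex.index_ne_zero) hdiv
  have h2 := pos_of_mem hD'
  have h3 : D' = d * r ^ i * (D' / (d * r ^ i)) := (Nat.mul_div_cancel' hdvd).symm
  have h4 : D' / (d * r ^ i) = 0 ∨ D' / (d * r ^ i) = 1 ∨ D' / (d * r ^ i) = 2 := by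
    have h5 := h1.trans hKi
    generalize D' / (d * r ^ i) = q at h5 ⊢
    omega
  rcases h4 with h4 | h4 | h4
  · rw [h4, mul_zero] at h3
    omega
  · rw [h4, mul_one] at h3
    exact hd1 (h3 ▸ h hD')
  · rw [h4, mul_comm] at h3
    exact hd2 (h3 ▸ h hD')

end Cfsg.Agent.H595.SD
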